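import Mathlib.Algebra.Homology.ShortComplex.ModuleCat
import Mathlib.Algebra.Homology.ShortComplex.HomologicalComplex
import Mathlib.RingTheory.Length
import Mathlib.Algebra.Ring.NegOnePow

/-!
# Euler characteristics of complexes indexed by ℤ × ℤ with differentials of total degree one
-/

set_option autoImplicit false
universe u

open CategoryTheory

namespace Groth.Agent.SSEuler

variable {A : Type u} [Ring A]

lemma length_homology_add (S : ShortComplex (ModuleCat.{u} A)) :
    Module.length A S.homology + Module.length A (LinearMap.range S.f.hom) +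
      Module.length A (LinearMap.range S.g.hom) = Module.length A S.X₂ := by
  have h1 : Module.length A S.homology =
      Module.length A (LinearMap.ker S.g.hom ⧸ LinearMap.range S.moduleCatToCycles) :=
    S.moduleCatHomologyIso.toLinearEquiv.length_eq
  have h2 : Module.length A (LinearMap.range S.f.hom) = Module.length A (LinearMap.range S.moduleCatToCycles) := by
    refine (LinearEquiv.ofInjective
      ((LinearMap.ker S.g.hom).subtype.domRestrict (LinearMap.range S.moduleCatToCycles)) ?_).trans
      (LinearEquiv.ofEq _ _ ?_) |>.length_eq.symm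
    · intro a b h
      exact Subtype.ext (Subtype.ext h)
    · ext x
      constructor
      · rintro ⟨⟨_, y, rfl⟩, rfl⟩
        exact ⟨y, rfl⟩
      · rintro ⟨y, rfl⟩
        exact ⟨⟨_, y, rfl⟩, rfl⟩
  have h3 : Module.length A (LinearMap.ker S.g.hom) = Module.length A (LinearMap.range S.moduleCatToCycles) +
      Module.length A (LinearMap.ker S.g.hom ⧸ LinearMap.range S.moduleCatToCycles) :=
    Module.length_eq_add_of_exact _ _ (Submodule.injective_subtype _) (Submodule.mkQ_surjective _)
      (LinearMap.exact_subtype_mkQ _)
  have h4 : Module.length A S.X₂ = Module.length A (LinearMap.ker S.g.hom) + Module.length A (LinearMap.range S.g.hom) :=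
    Module.length_eq_add_of_exact _ S.g.hom.rangeRestrict (Submodule.injective_subtype _)
      S.g.hom.surjective_rangeRestrict (by
        intro x
        constructor
        · intro hx
          exact ⟨⟨x, LinearMap.mem_ker.2 (congrArg Subtype.val hx)⟩, rfl⟩
        · rintro ⟨y, rfl⟩
          exact Subtype.ext (LinearMap.mem_ker.1 y.2))
  rw [h4, h3, h1, h2]
  ring

/-- the weight -/
def sgn (i : ℤ × ℤ) : ℤ := ((i.1 + i.2).negOnePow : ℤˣ)

/-- the Euler characteristic on a finite set of bidegrees -/
noncomputable def chi (s : Finset (ℤ × ℤ)) (M : ℤ × ℤ → ModuleCat.{u} A) : ℤ :=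
  ∑ i ∈ s, sgn i * ((Module.length A (M i)).toNat : ℤ)

variable (v : ℤ × ℤ) (K : HomologicalComplex (ModuleCat.{u} A) (ComplexShape.up' v))

/-- the length of the image of the outgoing differential -/
noncomputable def outLen (i : ℤ × ℤ) : ℕ∞ := Module.length A (LinearMap.range (K.d i (i + v)).hom)

lemma length_split (i : ℤ × ℤ) :
    Module.length A (K.homology i) + outLen v K (i - v) + outLen v K i = Module.length A (K.X i) := by
  have hn : (ComplexShape.up' v).next i = i + v := ComplexShape.next_eq' _ rfl
  have hp : (ComplexShape.up' v).prev i = i - v := ComplexShape.prev_eq' _ (sub_add_cancel i v)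
  have e1 : Module.length A (LinearMap.range (K.sc i).g.hom) = outLen v K i := by
    show Module.length A (LinearMap.range (K.d i ((ComplexShape.up' v).next i)).hom) = _
    rw [hn]
    rfl
  have e2 : Module.length A (LinearMap.range (K.sc i).f.hom) = outLen v K (i - v) := by
    show Module.length A (LinearMap.range (K.d ((ComplexShape.up' v).prev i) i).hom) = _
    rw [hp, outLen]
    have : ∀ j, j = i → Module.length A (LinearMap.range (K.d (i - v) j).hom) =
        Module.length A (LinearMap.range (K.d (i - v) i).hom) := fun j hj => by subst hj; rfl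
    exact (this _ (sub_add_cancel i v)).symm
  rw [← e1, ← e2]
  exact length_homology_add (K.sc i)

lemma chi_homology (hv : v.1 + v.2 = 1) (s : Finset (ℤ × ℤ))
    (hfin : ∀ i, Module.length A (K.X i) ≠ ⊤)
    (hs : ∀ i, i ∉ s → Module.length A (K.X i) = 0) :
    chi s (fun i => K.homology i) = chi s K.X ∧
      (∀ i, Module.length A (K.homology i) ≠ ⊤) ∧ (∀ i, i ∉ s → Module.length A (K.homology i) = 0) := by
  classical
  have hle : ∀ i, Module.length A (K.homology i) ≤ Module.length A (K.X i) := fun i =>
    (le_self_add.trans le_self_add).trans (length_split v K i).le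
  refine ⟨?_, fun i => ne_top_of_le_ne_top (hfin i) (hle i), fun i hi => nonpos_iff_eq_zero.1 (hs i hi ▸ hle i)⟩
  have hout : ∀ i, outLen v K i ≠ ⊤ := fun i =>
    ne_top_of_le_ne_top (hfin i) ((le_add_self).trans (length_split v K i).le)
  let o : ℤ × ℤ → ℤ := fun i => ((outLen v K i).toNat : ℤ)
  have hz1 : ∀ i, i ∉ s → o i = 0 := fun i hi => by
    have : outLen v K i = 0 := nonpos_iff_eq_zero.1 (hs i hi ▸ (le_add_self).trans (length_split v K i).le)
    simp [o, this]
  have hz2 : ∀ i, i + v ∉ s → o i = 0 := fun i hi => by
    have h := (le_add_self.trans le_self_add).trans (length_split v K (i + v)).le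
    rw [add_sub_cancel_right, hs _ hi] at h
    simp [o, nonpos_iff_eq_zero.1 h]
  have hsplit : ∀ i, ((Module.length A (K.X i)).toNat : ℤ) =
      ((Module.length A (K.homology i)).toNat : ℤ) + o (i - v) + o i := fun i => by
    rw [← length_split v K i, ENat.toNat_add (by simp [ne_top_of_le_ne_top (hfin i) (hle i), hout]) (hout i),
      ENat.toNat_add (ne_top_of_le_ne_top (hfin i) (hle i)) (hout _)]
    push_cast
    rfl
  have hshift : ∑ i ∈ s, sgn i * o (i - v) = - ∑ i ∈ s, sgn i * o i := by
    rw [← Finset.sum_neg_distrib]
    refine Finset.sum_bij_ne_zero (fun i _ _ => i - v) ?_ ?_ ?_ ?_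
    · intro i _ h
      by_contra hc
      exact h (by rw [hz1 _ hc, mul_zero])
    · intro a _ _ b _ _ hab
      simpa using hab
    · intro j hj hne
      refine ⟨j + v, ?_, ?_, add_sub_cancel_right j v⟩
      · by_contra hc
        exact hne (by rw [hz2 _ hc, mul_zero, neg_zero])
      · rw [add_sub_cancel_right]
        intro hc
        rcases mul_eq_zero.1 hc with h | h
        · simp [sgn] at h
        · exact hne (by rw [h, mul_zero, neg_zero])
    · intro i _ _
      have : sgn i = - sgn (i - v) := by
        simp only [sgn, Prod.fst_sub, Prod.snd_sub]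
        rw [show i.1 + i.2 = (i.1 - v.1 + (i.2 - v.2)) + 1 by omega, Int.negOnePow_succ]
        simp
      rw [this, neg_mul]
  have : chi s K.X = chi s (fun i => K.homology i) + (∑ i ∈ s, sgn i * o (i - v) + ∑ i ∈ s, sgn i * o i) := by
    simp only [chi, hsplit, mul_add, Finset.sum_add_distrib]
    ring
  rw [this, hshift]
  ring

end Groth.Agent.SSEuler
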